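import Groth.Agent.FlatStrat.Alg
import Groth.Prelude.Def_FlatCA

/-!
# Flatness of a finitely presented module descends to a stage of a directed colimit
-/

universe u

open MvPolynomial TensorProduct

namespace Groth.Agent.FlatSyz5

open FlatModel FlatStrat

/-- A finitely presented algebra over a noetherian ring, mapping to a colimit, maps to a stage. -/
theorem exists_lift_stage {R₀ : Type u} [CommRing R₀] [IsNoetherianRing R₀] {A : Type u} [CommRing A] [Algebra R₀ A]
    (R₁ : Subalgebra R₀ A) (hR₁ : R₁.FG)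
    {ι : Type u} [Preorder ι] (G : ι → Type u) [∀ i, CommRing (G i)] [∀ i, Algebra R₀ (G i)]
    [∀ i, Algebra (G i) A] [∀ i, IsScalarTower R₀ (G i) A] (g : ∀ i j, i ≤ j → G i →ₐ[R₀] G j)
    (hcolim : FlatCA.IsDirectedColimitRing G (fun i j h => (g i j h).toRingHom) A) :
    ∃ (j : ι) (_ : Algebra R₁ (G j)), IsScalarTower R₀ R₁ (G j) ∧ IsScalarTower R₁ (G j) A := by
  classical
  obtain ⟨hdir, hne, -, hcomp, halg, hsurj, hinj⟩ := hcolim
  have hg : ∀ i j (h : i ≤ j) (x : G i), algebraMap (G j) A (g i j h x) = algebraMap (G i) A x :=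
    fun i j h x => RingHom.congr_fun (halg i j h) x
  obtain ⟨i₀⟩ := hne
  obtain ⟨s, hs⟩ := hR₁
  -- lift the generators
  have hlift : ∀ t : Finset A, ∃ i, ∀ a ∈ t, ∃ x : G i, algebraMap (G i) A x = a := by
    intro t
    induction t using Finset.induction with
    | empty => exact ⟨i₀, by simp⟩
    | insert a t _ ih =>
      obtain ⟨i, hi⟩ := ih
      obtain ⟨i', x, hx⟩ := hsurj a
      obtain ⟨k, hik, hi'k⟩ := hdir.directed i i'
      refine ⟨k, fun b hb => ?_⟩
      rcases Finset.mem_insert.1 hb with rfl | hb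
      · exact ⟨g i' k hi'k x, (hg _ _ _ _).trans hx⟩
      · obtain ⟨y, hy⟩ := hi b hb
        exact ⟨g i k hik y, (hg _ _ _ _).trans hy⟩
  obtain ⟨i, hi⟩ := hlift s
  choose x hx using fun a : s => hi a.1 a.2
  let π : MvPolynomial s R₀ →ₐ[R₀] A := MvPolynomial.aeval fun a => a.1
  let ρ : MvPolynomial s R₀ →ₐ[R₀] G i := MvPolynomial.aeval x
  have hπρ : ∀ q, algebraMap (G i) A (ρ q) = π q := by
    intro q
    refine AlgHom.congr_fun (φ₁ := (IsScalarTower.toAlgHom R₀ (G i) A).comp ρ) (φ₂ := π) ?_ q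
    ext a
    simp [π, ρ, hx]
  obtain ⟨T, hT⟩ := IsNoetherian.noetherian (RingHom.ker π.toRingHom)
  have hkill : ∀ t : Finset (MvPolynomial s R₀), (∀ q ∈ t, π q = 0) →
      ∃ j, ∃ h : i ≤ j, ∀ q ∈ t, g i j h (ρ q) = 0 := by
    intro t
    induction t using Finset.induction with
    | empty => exact fun _ => ⟨i, le_rfl, by simp⟩
    | insert q t _ ih =>
      intro h
      obtain ⟨j, hj, hj'⟩ := ih fun r hr => h r (Finset.mem_insert_of_mem hr)
      obtain ⟨j', hij', hq⟩ := hinj i (ρ q) ((hπρ q).trans (h q (Finset.mem_insert_self _ _)))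
      obtain ⟨k, hjk, hj'k⟩ := hdir.directed j j'
      refine ⟨k, hj.trans hjk, fun r hr => ?_⟩
      rcases Finset.mem_insert.1 hr with rfl | hr
      · have h2 := RingHom.congr_fun (hcomp i j' k hij' hj'k) (ρ r)
        simp only [RingHom.comp_apply] at h2
        rw [show (g i j' hij').toRingHom (ρ r) = 0 from hq, map_zero] at h2
        exact h2.symm
      · have h2 := RingHom.congr_fun (hcomp i j k hj hjk) (ρ r)
        simp only [RingHom.comp_apply] at h2
        rw [show (g i j hj).toRingHom (ρ r) = 0 from hj' r hr, map_zero] at h2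
        exact h2.symm
  obtain ⟨j, hij, hj⟩ := hkill T fun q hq => hT.le (Submodule.subset_span hq)
  let θ : MvPolynomial s R₀ →ₐ[R₀] G j := (g i j hij).comp ρ
  have hker : ∀ q, π q = 0 → θ q = 0 := fun q hq => by
    have hle : (RingHom.ker π.toRingHom) ≤ RingHom.ker θ.toRingHom := hT ▸ Submodule.span_le.2 fun r hr => hj r hr
    exact hle hq
  have hrange : π.range = R₁ := by
    rw [← hs, MvPolynomial.aeval_range]
    congr 1
    exact Subtype.range_coe
  let π' : MvPolynomial s R₀ →ₐ[R₀] R₁ := π.codRestrict R₁ fun q => hrange.le ⟨q, rfl⟩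
  have hπ' : Function.Surjective π' := fun y => by
    obtain ⟨q, hq⟩ := hrange.ge y.2
    exact ⟨q, Subtype.ext hq⟩
  let ψ : R₁ →+* G j := RingHom.liftOfSurjective π'.toRingHom hπ'
    ⟨θ.toRingHom, fun q hq => hker q (congrArg Subtype.val (RingHom.mem_ker.1 hq))⟩
  have hψ : ∀ q, ψ (π' q) = θ q := fun q => RingHom.liftOfRightInverse_comp_apply _ _ _ _ q
  refine ⟨j, ψ.toAlgebra, @IsScalarTower.of_algebraMap_eq R₀ R₁ (G j) _ _ _ _ ψ.toAlgebra _ fun r => ?_,
    @IsScalarTower.of_algebraMap_eq R₁ (G j) A _ _ _ ψ.toAlgebra _ _ fun y => ?_⟩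
  · show algebraMap R₀ (G j) r = ψ (algebraMap R₀ R₁ r)
    rw [← π'.commutes, hψ, θ.commutes]
  · obtain ⟨q, rfl⟩ := hπ' y
    show (π' q : A) = algebraMap (G j) A (ψ (π' q))
    rw [hψ]
    exact ((hg _ _ _ _).trans (hπρ q)).symm

/-- Flatness at the colimit gives flatness at a stage. -/
theorem exists_flat_stage {A₀ : Type u} [CommRing A₀]
    {ι : Type u} [Preorder ι] (G : ι → Type u) [∀ i, CommRing (G i)] [∀ i, Algebra A₀ (G i)]
    (g : ∀ i j, i ≤ j → G i →ₐ[A₀] G j)
    (A : Type u) [CommRing A] [Algebra A₀ A] [∀ i, Algebra (G i) A] [∀ i, IsScalarTower A₀ (G i) A]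
    (hcolim : FlatCA.IsDirectedColimitRing G (fun i j h => (g i j h).toRingHom) A)
    {B₀ : Type u} [CommRing B₀] [Algebra A₀ B₀] [Algebra.FinitePresentation A₀ B₀]
    (M₀ : Type u) [AddCommGroup M₀] [Module B₀ M₀] [Module A₀ M₀] [IsScalarTower A₀ B₀ M₀]
    [Module.FinitePresentation B₀ M₀] (hflat : Module.Flat A (A ⊗[A₀] M₀)) :
    ∃ i : ι, Module.Flat (G i) (G i ⊗[A₀] M₀) := by
  classical
  obtain ⟨n, φ, hφ, hkerφ⟩ := Algebra.FinitePresentation.out (R := A₀) (A := B₀)
  let := φ.toRingHom.toAlgebra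
  let := Module.compHom M₀ φ.toRingHom
  have : IsScalarTower (MvPolynomial (Fin n) A₀) B₀ M₀ := ⟨fun p s m => mul_smul (φ p) s m⟩
  have : IsScalarTower A₀ (MvPolynomial (Fin n) A₀) M₀ := ⟨fun r p m => by
    show φ (r • p) • m = r • φ p • m
    rw [map_smul, smul_assoc]⟩
  have : Module.FinitePresentation (MvPolynomial (Fin n) A₀) B₀ :=
    Module.finitePresentation_of_surjective (Algebra.linearMap (MvPolynomial (Fin n) A₀) B₀) hφ hkerφ
  have : Module.FinitePresentation (MvPolynomial (Fin n) A₀) M₀ := Module.FinitePresentation.trans _ M₀ B₀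
  obtain ⟨a, π, hπ⟩ := Module.Finite.exists_fin' (MvPolynomial (Fin n) A₀) M₀
  obtain ⟨S, hS⟩ := Module.FinitePresentation.fg_ker π hπ
  let c : Finset A₀ := S.biUnion fun v => Finset.univ.biUnion fun i => (v i).coeffs
  let R₀ : Subalgebra ℤ A₀ := Algebra.adjoin ℤ (c : Set A₀)
  have : Algebra.FiniteType ℤ R₀ := (Subalgebra.fg_iff_finiteType R₀).1 (Subalgebra.fg_adjoin_finset c)
  have : IsNoetherianRing R₀ := Algebra.FiniteType.isNoetherianRing ℤ R₀
  have hGdesc : ∀ v ∈ S, ∃ w : V a n R₀, mapV (algebraMap R₀ A₀) w = v := by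
    intro v hv
    have : ∀ i, ∃ q : MvPolynomial (Fin n) R₀, MvPolynomial.map (algebraMap R₀ A₀) q = v i := fun i =>
      MvPolynomial.mem_range_map_iff_coeffs_subset.2 fun x hx =>
        ⟨⟨x, Algebra.subset_adjoin (Finset.mem_biUnion.2 ⟨v, hv, Finset.mem_biUnion.2 ⟨i, Finset.mem_univ _, hx⟩⟩)⟩, rfl⟩
    choose w hw using this
    exact ⟨w, funext hw⟩
  choose! lv hlv using hGdesc
  let K₀ : Submodule (MvPolynomial (Fin n) R₀) (V a n R₀) := Submodule.span _ (lv '' S)
  have hker : LinearMap.ker π = KK K₀ A₀ := by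
    apply le_antisymm
    · rw [← hS, Submodule.span_le]
      intro v hv
      exact Submodule.subset_span ⟨lv v, Submodule.subset_span ⟨v, hv, rfl⟩, hlv v hv⟩
    · rw [KK, Submodule.span_le]
      rintro _ ⟨w, hw, rfl⟩
      refine Submodule.span_le.2 ?_ (mapV_mem_span (algebraMap R₀ A₀) hw)
      rintro _ ⟨w, ⟨v, hv, rfl⟩, rfl⟩
      rw [hlv v hv]
      exact hS.le (Submodule.subset_span hv)
  let eM : Quot' K₀ A₀ ≃ₗ[A₀] M₀ := (Submodule.quotEquivOfEq _ (LinearMap.ker (π.restrictScalars A₀))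
    (by rw [LinearMap.ker_restrictScalars, hker])).trans ((π.restrictScalars A₀).quotKerEquivOfSurjective hπ)
  obtain ⟨eA⟩ := nonempty_quot_baseChange (R := A₀) (R' := A) K₀
  have hF : FlatC K₀ A := (flatC_iff_flat K₀).2 (by
    haveI := hflat
    haveI : Module.Flat A (Quot' K₀ A) := Module.Flat.of_linearEquiv (eA.symm.trans (eM.baseChange A₀ A _ _))
    exact Module.Flat.of_linearEquiv (Submodule.Quotient.restrictScalarsEquiv A (KK K₀ A)).symm)
  obtain ⟨R₁, hR₁, hR₁F⟩ := exists_fg_flatC K₀ hF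
  obtain ⟨j, halg, htow, -⟩ := exists_lift_stage R₁ hR₁ G (fun i j h => (g i j h).restrictScalars R₀) hcolim
  refine ⟨j, ?_⟩
  haveI : Module.Flat R₁ (Quot' K₀ R₁) :=
    haveI := (flatC_iff_flat K₀).1 hR₁F
    Module.Flat.of_linearEquiv (Submodule.Quotient.restrictScalarsEquiv R₁ (KK K₀ R₁))
  obtain ⟨e₁⟩ := nonempty_quot_baseChange (R := R₁) (R' := G j) K₀
  obtain ⟨e₂⟩ := nonempty_quot_baseChange (R := A₀) (R' := G j) K₀
  exact Module.Flat.of_linearEquiv ((eM.symm.baseChange A₀ (G j) _ _).trans (e₂.trans e₁.symm))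

end Groth.Agent.FlatSyz5
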