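import Groth.Agent.FlatModel.Core
import Groth.Agent.W4Lib.Flat
import Mathlib

/-!
# Syzygies of finitely presented modules flat over the base are finitely presented
-/

namespace Groth.Agent.FlatSyz5

open MvPolynomial TensorProduct Groth.Agent.FlatModel


universe u

section BC

variable {a b n : ℕ} {R₁ R : Type u} [CommRing R₁] [CommRing R] [Algebra R₁ R]

theorem mapL_bijective_baseChange :
    Function.Bijective ((mapL (R₀ := R₁) (a := a) (n := n) R).liftBaseChange R) := by
  let e := (B a n R₁).baseChange R |>.equiv (B a n R) (Equiv.refl _)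
  have h : (mapL (R₀ := R₁) (a := a) (n := n) R).liftBaseChange R = e.toLinearMap := by
    refine ((B a n R₁).baseChange R).ext fun i => ?_
    rw [LinearEquiv.coe_coe, Module.Basis.equiv_apply, Equiv.refl_apply, Module.Basis.baseChange_apply,
      LinearMap.liftBaseChange_tmul, one_smul, mapL_B]
  rw [h]
  exact e.bijective

theorem mapV_linearCombination (g : R₁ →+* R) (k : Fin b → V a n R₁) (y : V b n R₁) :
    mapV g (Fintype.linearCombination (MvPolynomial (Fin n) R₁) k y) =
      Fintype.linearCombination (MvPolynomial (Fin n) R) (fun j => mapV g (k j)) (mapV g y) := by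
  ext i
  simp [Fintype.linearCombination_apply, Finset.sum_apply]

/-- A kernel with flat cokernel commutes with the change of coefficients. -/
theorem ker_fg_of_flat [IsNoetherianRing R₁] (k : Fin b → V a n R₁)
    (hflat : Module.Flat R₁ (V a n R₁ ⧸
      LinearMap.range ((Fintype.linearCombination (MvPolynomial (Fin n) R₁) k).restrictScalars R₁))) :
    (LinearMap.ker (Fintype.linearCombination (MvPolynomial (Fin n) R)
      fun j => mapV (algebraMap R₁ R) (k j))).FG := by
  classical
  let P₁ := MvPolynomial (Fin n) R₁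
  let α := Fintype.linearCombination P₁ k
  let β := Fintype.linearCombination (MvPolynomial (Fin n) R) fun j => mapV (algebraMap R₁ R) (k j)
  obtain ⟨s, hs⟩ : (LinearMap.ker α).FG := IsNoetherian.noetherian _
  refine ⟨s.image (mapV (algebraMap R₁ R)), le_antisymm ?_ ?_⟩
  · rw [Submodule.span_le]
    intro x hx
    simp only [Finset.coe_image, Set.mem_image] at hx
    obtain ⟨y, hy, rfl⟩ := hx
    have hy' : α y = 0 := hs.le (Submodule.subset_span hy)
    show β (mapV _ y) = 0
    rw [← mapV_linearCombination, hy', mapV_zero]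
  · intro x hx
    let α₁ : V b n R₁ →ₗ[R₁] V a n R₁ := α.restrictScalars R₁
    obtain ⟨t, rfl⟩ := (mapL_bijective_baseChange (R₁ := R₁) (a := b) (n := n)).2 x
    have hcomm : ∀ t : R ⊗[R₁] V b n R₁, β ((FlatModel.mapL R).liftBaseChange R t) =
        (FlatModel.mapL R).liftBaseChange R (α₁.lTensor R t) := by
      intro t
      induction t using TensorProduct.induction_on with
      | zero => simp
      | tmul r y =>
        simp only [LinearMap.liftBaseChange_tmul, LinearMap.lTensor_tmul, LinearMap.map_smul_of_tower]
        exact congrArg (r • ·) (mapV_linearCombination (algebraMap R₁ R) k y).symm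
      | add u v hu hv => simp only [map_add, hu, hv]
    have h0 : α₁.lTensor R t = 0 := by
      apply (mapL_bijective_baseChange (R₁ := R₁) (R := R) (a := a) (n := n)).1
      rw [← hcomm, map_zero]
      exact hx
    let α' : V b n R₁ →ₗ[R₁] LinearMap.range α₁ := α₁.rangeRestrict
    have hinj : Function.Injective ((LinearMap.range α₁).subtype.lTensor R) :=
      W4Lib.lTensor_injective_of_flat_quotient (Submodule.injective_subtype _)
        (LinearMap.exact_subtype_mkQ _) (Submodule.mkQ_surjective _) R
    have h1 : α'.lTensor R t = 0 := by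
      apply hinj
      rw [map_zero, ← LinearMap.comp_apply, ← LinearMap.lTensor_comp]
      exact h0
    have hex : Function.Exact (LinearMap.ker α₁).subtype α' := fun y => by
      rw [show α' y = 0 ↔ α₁ y = 0 from Subtype.ext_iff, ← LinearMap.mem_ker]
      simp
    obtain ⟨z, rfl⟩ := (lTensor_exact R hex α₁.surjective_rangeRestrict t).1 h1
    clear hx h0 h1
    induction z using TensorProduct.induction_on with
    | zero => simp
    | tmul r y =>
      rw [LinearMap.lTensor_tmul, LinearMap.liftBaseChange_tmul]
      refine Submodule.smul_of_tower_mem _ r ?_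
      have hy : (y : V b n R₁) ∈ Submodule.span P₁ (s : Set (V b n R₁)) := hs.ge y.2
      rw [Finset.coe_image]
      exact mapV_mem_span _ hy
    | add u v hu hv => rw [map_add, map_add]; exact add_mem hu hv

end BC

/-- Over a polynomial ring: relations of a module flat over the base are finitely presented. -/
theorem fp_ker_poly {R : Type u} [CommRing R] {a n : ℕ} {M : Type u} [AddCommGroup M] [Module R M]
    [Module (MvPolynomial (Fin n) R) M] [IsScalarTower R (MvPolynomial (Fin n) R) M]
    [Module.FinitePresentation (MvPolynomial (Fin n) R) M] [Module.Flat R M]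
    (π : V a n R →ₗ[MvPolynomial (Fin n) R] M) (hπ : Function.Surjective π) :
    Module.FinitePresentation (MvPolynomial (Fin n) R) (LinearMap.ker π) := by
  classical
  obtain ⟨G, hG⟩ := Module.FinitePresentation.fg_ker π hπ
  let c : Finset R := G.biUnion fun v => Finset.univ.biUnion fun i => (v i).coeffs
  let R₀ : Subalgebra ℤ R := Algebra.adjoin ℤ (c : Set R)
  have : Algebra.FiniteType ℤ R₀ := (Subalgebra.fg_iff_finiteType R₀).1 (Subalgebra.fg_adjoin_finset c)
  have : IsNoetherianRing R₀ := Algebra.FiniteType.isNoetherianRing ℤ R₀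
  have hGdesc : ∀ v ∈ G, ∃ w : V a n R₀, mapV (algebraMap R₀ R) w = v := by
    intro v hv
    have : ∀ i, ∃ q : MvPolynomial (Fin n) R₀, MvPolynomial.map (algebraMap R₀ R) q = v i := fun i =>
      MvPolynomial.mem_range_map_iff_coeffs_subset.2 fun x hx =>
        ⟨⟨x, Algebra.subset_adjoin (Finset.mem_biUnion.2 ⟨v, hv, Finset.mem_biUnion.2 ⟨i, Finset.mem_univ _, hx⟩⟩)⟩, rfl⟩
    choose w hw using this
    exact ⟨w, funext hw⟩
  choose! lv hlv using hGdesc
  let K₀ : Submodule (MvPolynomial (Fin n) R₀) (V a n R₀) := Submodule.span _ (lv '' G)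
  have hker : LinearMap.ker π = KK K₀ R := by
    apply le_antisymm
    · rw [← hG, Submodule.span_le]
      intro v hv
      exact Submodule.subset_span ⟨lv v, Submodule.subset_span ⟨v, hv, rfl⟩, hlv v hv⟩
    · rw [KK, Submodule.span_le]
      rintro _ ⟨w, hw, rfl⟩
      refine Submodule.span_le.2 ?_ (mapV_mem_span (algebraMap R₀ R) hw)
      rintro _ ⟨w, ⟨v, hv, rfl⟩, rfl⟩
      rw [hlv v hv]
      exact hG.le (Submodule.subset_span hv)
  have hF : FlatC K₀ R := (flatC_iff_flat K₀).2 (Module.Flat.of_linearEquiv
    (((Submodule.quotEquivOfEq _ _ hker.symm).trans (π.quotKerEquivOfSurjective hπ)).restrictScalars R))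
  obtain ⟨R₁, hR₁, hR₁F⟩ := exists_fg_flatC K₀ hF
  have : Algebra.FiniteType R₀ R₁ := (Subalgebra.fg_iff_finiteType R₁).1 hR₁
  have : IsNoetherianRing R₁ := Algebra.FiniteType.isNoetherianRing R₀ R₁
  obtain ⟨b, k, hk⟩ := Submodule.fg_iff_exists_fin_generating_family.1
    (IsNoetherian.noetherian (KK K₀ R₁) : (KK K₀ R₁).FG)
  let α := Fintype.linearCombination (MvPolynomial (Fin n) R₁) k
  have hα : LinearMap.range α = KK K₀ R₁ := by rw [← hk, Fintype.range_linearCombination]
  have hflat : Module.Flat R₁ (V a n R₁ ⧸ LinearMap.range (α.restrictScalars R₁)) := by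
    have := (flatC_iff_flat K₀).1 hR₁F
    refine Module.Flat.of_linearEquiv ((Submodule.quotEquivOfEq _ ((KK K₀ R₁).restrictScalars R₁) ?_).trans
      (Submodule.Quotient.restrictScalarsEquiv R₁ (KK K₀ R₁)))
    rw [← hα]
    rfl
  have hrange : LinearMap.range (Fintype.linearCombination (MvPolynomial (Fin n) R)
      fun j => mapV (algebraMap R₁ R) (k j)) = LinearMap.ker π := by
    rw [hker, Fintype.range_linearCombination]
    apply le_antisymm
    · rw [Submodule.span_le]
      rintro _ ⟨j, rfl⟩
      have hj : k j ∈ Submodule.span (MvPolynomial (Fin n) R₁) (mapV (algebraMap R₀ R₁) '' K₀) :=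
        hk.le (Submodule.subset_span ⟨j, rfl⟩)
      refine Submodule.span_le.2 ?_ (mapV_mem_span (algebraMap R₁ R) hj)
      rintro _ ⟨_, ⟨w, hw, rfl⟩, rfl⟩
      rw [mapV_mapV, ← IsScalarTower.algebraMap_eq]
      exact Submodule.subset_span ⟨w, hw, rfl⟩
    · rw [KK, Submodule.span_le]
      rintro _ ⟨w, hw, rfl⟩
      have h1 : mapV (algebraMap R₀ R₁) w ∈ Submodule.span (MvPolynomial (Fin n) R₁) (Set.range k) :=
        hk.ge (Submodule.subset_span ⟨w, hw, rfl⟩)
      have h2 := mapV_mem_span (algebraMap R₁ R) h1
      rw [mapV_mapV, ← IsScalarTower.algebraMap_eq, ← Set.range_comp] at h2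
      exact h2
  rw [← hrange]
  exact Module.finitePresentation_of_surjective _ (LinearMap.surjective_rangeRestrict _)
    (by rw [LinearMap.ker_rangeRestrict]; exact ker_fg_of_flat k hflat)

variable {A B : Type u} [CommRing A] [CommRing B] [Algebra A B] [Algebra.FinitePresentation A B]
  {M : Type u} [AddCommGroup M] [Module B M] [Module A M] [IsScalarTower A B M]

/-- Relations of a finitely presented module flat over the base are finitely presented. -/
theorem fp_ker [Module.FinitePresentation B M] [Module.Flat A M] {a : ℕ}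
    (π : (Fin a → B) →ₗ[B] M) (hπ : Function.Surjective π) :
    Module.FinitePresentation B (LinearMap.ker π) := by
  obtain ⟨n, φ, hφ, hkerφ⟩ := Algebra.FinitePresentation.out (R := A) (A := B)
  let := φ.toRingHom.toAlgebra
  let := Module.compHom M φ.toRingHom
  let P := MvPolynomial (Fin n) A
  have : IsScalarTower P B M := ⟨fun p s m => mul_smul (φ p) s m⟩
  have : IsScalarTower A P M := ⟨fun r p m => by
    show φ (r • p) • m = r • φ p • m
    rw [map_smul, smul_assoc]⟩
  have hkA : (LinearMap.ker (Algebra.linearMap P B)).FG := hkerφ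
  have : Module.FinitePresentation P B :=
    Module.finitePresentation_of_surjective (Algebra.linearMap P B) hφ hkA
  have : Module.FinitePresentation P M := Module.FinitePresentation.trans _ M B
  let q : V a n A →ₗ[P] (Fin a → B) := LinearMap.pi fun i => (Algebra.linearMap P B) ∘ₗ LinearMap.proj i
  have hq : Function.Surjective q := fun v => ⟨fun i => (hφ (v i)).choose, funext fun i => (hφ (v i)).choose_spec⟩
  let π' : V a n A →ₗ[P] M := (π.restrictScalars P) ∘ₗ q
  have := fp_ker_poly π' (hπ.comp hq)
  let r : LinearMap.ker π' →ₗ[P] (LinearMap.ker π).restrictScalars P :=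
    (q ∘ₗ (LinearMap.ker π').subtype).codRestrict _ fun x => x.2
  have hr : Function.Surjective r := fun y => by
    obtain ⟨x, hx⟩ := hq y.1
    exact ⟨⟨x, show π (q x) = 0 from hx ▸ y.2⟩, Subtype.ext hx⟩
  have hrk : (LinearMap.ker r).FG := by
    have h1 : (LinearMap.ker q).FG := Module.FinitePresentation.fg_ker q hq
    have h2 : (LinearMap.ker r).map (LinearMap.ker π').subtype = LinearMap.ker q := by
      ext x
      refine ⟨?_, fun hx => ⟨⟨x, show π (q x) = 0 by rw [LinearMap.mem_ker.1 hx, map_zero]⟩, Subtype.ext hx, rfl⟩⟩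
      rintro ⟨y, hy, rfl⟩
      exact congrArg Subtype.val hy
    exact Submodule.fg_of_fg_map_injective _ (Submodule.injective_subtype _) (h2 ▸ h1)
  have : Module.FinitePresentation P ((LinearMap.ker π).restrictScalars P) :=
    Module.finitePresentation_of_surjective r hr hrk
  haveI : Module.FinitePresentation P (LinearMap.ker π) :=
    Module.FinitePresentation.of_equiv
      ((Submodule.restrictScalarsEquiv P B (Fin a → B) (LinearMap.ker π)).restrictScalars P)
  haveI : Module.Finite B (LinearMap.ker π) := Module.Finite.of_restrictScalars_finite P _ _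
  obtain ⟨m, ρ, hρ⟩ := Module.Finite.exists_fin' B (LinearMap.ker π)
  exact Module.finitePresentation_of_surjective ρ hρ (Submodule.FG.of_restrictScalars P
    (Module.FinitePresentation.fg_ker (ρ.restrictScalars P) hρ))

end Groth.Agent.FlatSyz5
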