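import Groth.Agent.W4Lib.Flat
import Groth.Agent.QCoh.FlatOver
import Mathlib

/-!
# Fibrewise criterion of freeness for finitely presented modules
-/

namespace Groth.Agent.FlatSyz5

open TensorProduct

universe u

/-- A finitely presented module over a local ring, flat over the base, is free as soon as its reduction
modulo the extension of an ideal of the base is free. -/
theorem free_of_fibre {A B : Type u} [CommRing A] [CommRing B] [IsLocalRing B] [Algebra A B]
    {M : Type u} [AddCommGroup M] [Module B M] [Module A M] [IsScalarTower A B M]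
    [Module.FinitePresentation B M] [Module.Flat A M] (I : Ideal A)
    (hI : I.map (algebraMap A B) ≠ ⊤)
    (hfree : Module.Free (B ⧸ I.map (algebraMap A B)) ((B ⧸ I.map (algebraMap A B)) ⊗[B] M)) :
    Module.Free B M := by
  classical
  let J := I.map (algebraMap A B)
  let Bb := B ⧸ J
  have hJ : J ≤ (⊥ : Ideal B).jacobson := by
    rw [IsLocalRing.jacobson_eq_maximalIdeal ⊥ bot_ne_top]
    exact IsLocalRing.le_maximalIdeal hI
  haveI : Nontrivial Bb := Ideal.Quotient.nontrivial_iff.2 hI
  let b := hfree.chooseBasis
  haveI : Module.Finite Bb (Bb ⊗[B] M) := Module.Finite.base_change B Bb M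
  haveI : Finite (Module.Free.ChooseBasisIndex Bb (Bb ⊗[B] M)) := Module.Finite.finite_basis b
  have hsurj : Function.Surjective (TensorProduct.mk B Bb M 1) :=
    TensorProduct.mk_surjective B M _ Ideal.Quotient.mk_surjective
  choose v hv using fun k => hsurj (b k)
  let f := Finsupp.linearCombination B v
  let red := TensorProduct.mk B Bb M 1
  let q : (Module.Free.ChooseBasisIndex Bb (Bb ⊗[B] M) →₀ B) →ₗ[B]
      (Module.Free.ChooseBasisIndex Bb (Bb ⊗[B] M) →₀ Bb) :=
    Finsupp.mapRange.linearMap (Algebra.linearMap B Bb)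
  have hcomm : ∀ c, red (f c) = b.repr.symm (q c) := by
    intro c
    induction c using Finsupp.induction_linear with
    | zero => simp
    | add c d hc hd => rw [map_add, map_add, map_add, map_add, hc, hd]
    | single k r =>
      simp only [f, q, red, Finsupp.linearCombination_single, map_smul, hv, Finsupp.mapRange.linearMap_apply,
        Finsupp.mapRange_single, Algebra.linearMap_apply, Module.Basis.repr_symm_apply]
      exact (algebraMap_smul Bb r (b k)).symm
  have hf : Function.Surjective f := by
    have hgen : (⊤ : Submodule B M) ≤ LinearMap.range f ⊔ J • ⊤ := by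
      intro x _
      obtain ⟨c, hc⟩ : ∃ c, q c = b.repr (red x) :=
        Finsupp.mapRange_surjective _ (map_zero _) Ideal.Quotient.mk_surjective (b.repr (red x))
      refine Submodule.mem_sup.2 ⟨f c, ⟨c, rfl⟩, x - f c, ?_, add_sub_cancel _ _⟩
      have h1 : red (x - f c) = 0 := by rw [map_sub, hcomm, hc, LinearEquiv.symm_apply_apply, sub_self]
      have h2 := congrArg (TensorProduct.quotTensorEquivQuotSMul M J) h1
      rw [map_zero] at h2
      have h3 : TensorProduct.quotTensorEquivQuotSMul M J ((Ideal.Quotient.mk J (1 : B)) ⊗ₜ[B] (x - f c)) = 0 := h2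
      rw [TensorProduct.quotTensorEquivQuotSMul_mk_tmul, one_smul] at h3
      exact (Submodule.Quotient.mk_eq_zero _).1 h3
    exact LinearMap.range_eq_top.1 (top_le_iff.1
      (Submodule.le_of_le_smul_of_le_jacobson_bot Module.Finite.fg_top hJ hgen))
  obtain ⟨K, hK⟩ : ∃ K, K = LinearMap.ker f := ⟨_, rfl⟩
  have hKfg : K.FG := hK ▸ Module.FinitePresentation.fg_ker f hf
  let KA := K.restrictScalars A
  have hex : Function.Exact KA.subtype (f.restrictScalars A) := fun y => by
    constructor
    · intro hy
      exact ⟨⟨y, hK.ge hy⟩, rfl⟩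
    · rintro ⟨y, rfl⟩
      exact hK.le y.2
  have hinj := W4Lib.lTensor_injective_of_flat_quotient (M₁ := ↥KA) (f := KA.subtype) (g := f.restrictScalars A)
    (Submodule.injective_subtype KA) hex hf (A ⧸ I)
  have hle : K ≤ J • K := by
    intro x hx
    have hxJ : x ∈ (J • ⊤ : Submodule B _) := by
      have h0 : q x = 0 := b.repr.symm.injective (by rw [← hcomm, LinearMap.mem_ker.1 (hK.le hx), map_zero, map_zero])
      rw [← Finsupp.sum_single x]
      refine Submodule.sum_mem _ fun k _ => ?_
      rw [show Finsupp.single k (x k) = x k • Finsupp.single k (1 : B) by simp]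
      exact Submodule.smul_mem_smul (Ideal.Quotient.eq_zero_iff_mem.1 (DFunLike.congr_fun h0 k)) Submodule.mem_top
    have hxI : x ∈ (I • ⊤ : Submodule A _) := by
      have h1 : x ∈ (J • (⊤ : Submodule B (Module.Free.ChooseBasisIndex Bb (Bb ⊗[B] M) →₀ B))).restrictScalars A := hxJ
      rwa [show (J • (⊤ : Submodule B (Module.Free.ChooseBasisIndex Bb (Bb ⊗[B] M) →₀ B))).restrictScalars A = _ from
        Ideal.smul_restrictScalars I ⊤, Submodule.restrictScalars_top] at h1
    have h1 : (Ideal.Quotient.mk I 1) ⊗ₜ[A] x = 0 := by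
      apply (TensorProduct.quotTensorEquivQuotSMul _ I).injective
      rw [TensorProduct.quotTensorEquivQuotSMul_mk_tmul, one_smul, map_zero, Submodule.Quotient.mk_eq_zero]
      exact hxI
    have h2 : (Ideal.Quotient.mk I 1) ⊗ₜ[A] (⟨x, hx⟩ : KA) = 0 :=
      hinj (by rw [LinearMap.lTensor_tmul, map_zero]; exact h1)
    have h3 := congrArg (TensorProduct.quotTensorEquivQuotSMul KA I) h2
    rw [TensorProduct.quotTensorEquivQuotSMul_mk_tmul, one_smul, map_zero, Submodule.Quotient.mk_eq_zero] at h3
    have h4 : x ∈ (I • (⊤ : Submodule A KA)).map KA.subtype := ⟨_, h3, rfl⟩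
    rw [Submodule.map_smul'', Submodule.map_top, Submodule.range_subtype] at h4
    have h5 : x ∈ (J • K).restrictScalars A := by
      rw [show (J • K).restrictScalars A = _ from Ideal.smul_restrictScalars I K]
      exact h4
    exact h5
  have hbot : K = ⊥ := Submodule.eq_bot_of_le_smul_of_le_jacobson_bot J K hKfg hle hJ
  exact Module.Free.of_equiv (LinearEquiv.ofBijective f ⟨LinearMap.ker_eq_bot.1 (hK ▸ hbot), hf⟩)

variable {A B M : Type u} [CommRing A] [CommRing B] [Algebra A B] [AddCommGroup M] [Module B M] [Module A M]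
    [IsScalarTower A B M] [Module.FinitePresentation B M] [Module.Flat A M]

/-- A finitely presented module, flat over the base, whose fibres are projective is flat. -/
theorem flat_of_fibres_projective (h : ∀ (p : Ideal A) [p.IsPrime],
    Module.Projective (B ⊗[A] p.ResidueField) ((B ⊗[A] p.ResidueField) ⊗[B] M)) : Module.Flat B M := by
  refine Module.flat_of_localized_maximal M fun q _ => ?_
  let B' := Localization.AtPrime q
  let M' := LocalizedModule q.primeCompl M
  haveI : Module.FinitePresentation B' M' := inferInstance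
  haveI : Module.Flat A M' :=
    QCoh.flat_base_of_isLocalizedModule q.primeCompl (LocalizedModule.mkLinearMap q.primeCompl M)
  let p := q.comap (algebraMap A B)
  let J := p.map (algebraMap A B')
  let B'' := B' ⧸ J
  have hpJ : J ≤ IsLocalRing.maximalIdeal B' := Ideal.map_le_iff_le_comap.2 fun a ha => by
    show algebraMap A B' a ∈ IsLocalRing.maximalIdeal B'
    rw [IsScalarTower.algebraMap_apply A B B']
    exact (IsLocalization.AtPrime.to_map_mem_maximal_iff B' q _).2 ha
  have hJtop : J ≠ ⊤ := fun e => (IsLocalRing.maximalIdeal.isMaximal B').ne_top (top_le_iff.1 (e ▸ hpJ))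
  haveI : Nontrivial B'' := Ideal.Quotient.nontrivial_iff.2 hJtop
  haveI : IsLocalRing B'' := IsLocalRing.of_surjective' (Ideal.Quotient.mk J) Ideal.Quotient.mk_surjective
  let κ₀ : p.ResidueField →ₐ[A] B'' := Ideal.ResidueField.liftₐ p (Algebra.ofId A B'')
    (fun a ha => by
      show algebraMap A B'' a = 0
      rw [IsScalarTower.algebraMap_apply A B' B'', Ideal.Quotient.algebraMap_eq, Ideal.Quotient.eq_zero_iff_mem]
      exact Ideal.mem_map_of_mem _ ha)
    (fun a ha => by
      show IsUnit (algebraMap A B'' a)
      rw [IsScalarTower.algebraMap_apply A B' B'', IsScalarTower.algebraMap_apply A B B']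
      exact (IsLocalization.map_units B' (⟨algebraMap A B a, ha⟩ : q.primeCompl)).map _)
  let ψ : B ⊗[A] p.ResidueField →ₐ[B] B'' :=
    Algebra.TensorProduct.lift (Algebra.ofId B B'') κ₀ fun _ _ => Commute.all _ _
  letI : Algebra (B ⊗[A] p.ResidueField) B'' := ψ.toRingHom.toAlgebra
  haveI : IsScalarTower B (B ⊗[A] p.ResidueField) B'' := IsScalarTower.of_algebraMap_eq fun b => (ψ.commutes b).symm
  haveI := h p
  haveI : Module.Projective B'' (B'' ⊗[B] M) := Module.Projective.of_equiv
    (AlgebraTensorModule.cancelBaseChange B (B ⊗[A] p.ResidueField) B'' B'' M)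
  haveI : Module.Finite B'' (B'' ⊗[B] M) := Module.Finite.base_change B B'' M
  haveI : Module.Free B'' (B'' ⊗[B] M) := Module.free_of_flat_of_isLocalRing
  have hfree' : Module.Free B'' (B'' ⊗[B'] M') := by
    refine Module.Free.of_equiv ((AlgebraTensorModule.cancelBaseChange B B' B'' B'' M).symm.trans
      ((IsLocalizedModule.isBaseChange q.primeCompl B' (LocalizedModule.mkLinearMap q.primeCompl M)).equiv.baseChange B' B'' _ _))
  haveI : Module.Free B' M' := free_of_fibre p hJtop hfree'
  haveI : Module.Flat B B' := IsLocalization.flat B' q.primeCompl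
  exact Module.Flat.trans B B' M'

end Groth.Agent.FlatSyz5
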