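import Groth.Agent.FlatSyz5.Basic
import Groth.Agent.NodeTor.Basic

/-!
# Resolutions by finite free modules of finitely presented modules flat over the base
-/

universe u

open CategoryTheory

namespace Groth.Agent.FlatSyz5

variable (A B : Type u) [CommRing A] [CommRing B] [Algebra A B] [Algebra.FinitePresentation A B] [Module.Flat A B]

/-- The kernel of a surjection between flat modules is flat. -/
theorem flat_ker {F M : Type u} [AddCommGroup F] [Module A F] [Module.Flat A F] [AddCommGroup M] [Module A M]
    [Module.Flat A M] (f : F →ₗ[A] M) (hf : Function.Surjective f) : Module.Flat A (LinearMap.ker f) := by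
  rw [Module.Flat.iff_lTensor_preserves_injective_linearMap]
  intro N P _ _ _ _ g hg
  have h2 := W4Lib.lTensor_injective_of_flat_quotient (Submodule.injective_subtype (LinearMap.ker f))
    (LinearMap.exact_subtype_ker_map f) hf N
  rw [LinearMap.lTensor_inj_iff_rTensor_inj] at h2
  have h3 : Function.Injective (g.lTensor F ∘ₗ (LinearMap.ker f).subtype.rTensor N) :=
    (Module.Flat.lTensor_preserves_injective_linearMap (M := F) g hg).comp h2
  rw [LinearMap.lTensor_comp_rTensor, ← LinearMap.rTensor_comp_lTensor] at h3
  exact Function.Injective.of_comp (by exact h3)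

omit [Algebra.FinitePresentation A B] in
/-- Finite powers of `B` are flat over `A`. -/
instance flat_pi (m : ℕ) : Module.Flat A (Fin m → B) :=
  Module.Flat.trans A B (Fin m → B)

/-- A finitely presented submodule of a finite free module which is flat over the base. -/
def Syz (A B : Type u) [CommRing A] [CommRing B] [Algebra A B] : Type u :=
  { N : Σ m : ℕ, Submodule B (Fin m → B) //
    Module.FinitePresentation B N.2 ∧ Module.Flat A N.2 }

variable {A B}

omit [Algebra.FinitePresentation A B] [Module.Flat A B] in
theorem finite_syz (N : Syz A B) : Module.Finite B N.1.2 :=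
  haveI := N.2.1
  inferInstance

/-- The next syzygy. -/
noncomputable def next (N : Syz A B) : Syz A B :=
  haveI := N.2.1
  haveI := N.2.2
  ⟨⟨(Module.Finite.exists_fin' B N.1.2).choose,
      LinearMap.ker (Module.Finite.exists_fin' B N.1.2).choose_spec.choose⟩,
    fp_ker (A := A) _ (Module.Finite.exists_fin' B N.1.2).choose_spec.choose_spec,
    flat_ker A ((Module.Finite.exists_fin' B N.1.2).choose_spec.choose.restrictScalars A)
      (Module.Finite.exists_fin' B N.1.2).choose_spec.choose_spec⟩

/-- The cover of a syzygy. -/
noncomputable def cover (N : Syz A B) : (Fin (next N).1.1 → B) →ₗ[B] N.1.2 :=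
  haveI := N.2.1
  (Module.Finite.exists_fin' B N.1.2).choose_spec.choose

theorem cover_surjective (N : Syz A B) : Function.Surjective (cover N) :=
  haveI := N.2.1
  (Module.Finite.exists_fin' B N.1.2).choose_spec.choose_spec

variable (A B)

/-- A finitely presented module flat over the base has a resolution by finite free modules. -/
theorem exists_projectiveResolution (M : Type u) [AddCommGroup M] [Module B M] [Module A M]
    [IsScalarTower A B M] [Module.FinitePresentation B M] [Module.Flat A M] :
    ∃ F : ProjectiveResolution (ModuleCat.of B M), ∀ n : ℕ,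
      Module.Finite B (F.complex.X n) ∧ Module.Free B (F.complex.X n) := by
  obtain ⟨k, p, hp⟩ := Module.Finite.exists_fin' B M
  let N₀ : Syz A B := ⟨⟨k, LinearMap.ker p⟩, fp_ker (A := A) p hp, flat_ker A (p.restrictScalars A) hp⟩
  let K : ℕ → Syz A B := fun n => n.rec N₀ fun _ N => next N
  let X : ℕ → ModuleCat.{u} B := fun n => ModuleCat.of B (Fin (K n).1.1 → B)
  let d : ∀ n, X (n + 1) ⟶ X n := fun n => ModuleCat.ofHom ((K n).1.2.subtype ∘ₗ cover (K n))
  have hrange : ∀ n, LinearMap.range (d n).hom = (K n).1.2 := fun n => by
    show LinearMap.range ((K n).1.2.subtype ∘ₗ cover (K n)) = _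
    rw [LinearMap.range_comp, LinearMap.range_eq_top.2 (cover_surjective _), Submodule.map_top,
      Submodule.range_subtype]
  have hker : ∀ n, LinearMap.ker (d n).hom = (K (n + 1)).1.2 := fun n => by
    show LinearMap.ker ((K n).1.2.subtype ∘ₗ cover (K n)) = _
    rw [LinearMap.ker_comp, Submodule.ker_subtype, Submodule.comap_bot]
    rfl
  have hex : ∀ n, Function.Exact (d (n + 1)).hom (d n).hom := fun n =>
    LinearMap.exact_iff.2 ((hker n).trans (hrange (n + 1)).symm)
  let ε : X 0 ⟶ ModuleCat.of B M := ModuleCat.ofHom p
  have h0 : Function.Exact (d 0).hom ε.hom := LinearMap.exact_iff.2 (hrange 0).symm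
  refine ⟨NodeTor.resolution (ModuleCat.of B M) X (fun n => (IsProjective.iff_projective _).1 inferInstance) d
    (fun n => ModuleCat.hom_ext (LinearMap.ext (hex n).apply_apply_eq_zero)) ε
    (ModuleCat.hom_ext (LinearMap.ext h0.apply_apply_eq_zero)) hp h0 hex, fun n =>
      ⟨(inferInstance : Module.Finite B (Fin (K n).1.1 → B)), (inferInstance : Module.Free B (Fin (K n).1.1 → B))⟩⟩

end Groth.Agent.FlatSyz5
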