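import Groth.Agent.FlatSyz5.Resolution
import Groth.Agent.FlatSyz5.FibreFree
import Groth.Agent.H9Misc.DRingTorDim

/-!
# Projective dimension of finitely presented modules flat over the base
-/

set_option linter.style.haveILetI false

universe u

open CategoryTheory CategoryTheory.Limits TensorProduct MonoidalCategory

namespace Groth.Agent.FlatSyz5

/-- The short exact sequence of a surjection. -/
abbrev kerSeq {B : Type u} [CommRing B] {F M : Type u} [AddCommGroup F] [Module B F] [AddCommGroup M] [Module B M]
    (π : F →ₗ[B] M) : ShortComplex (ModuleCat.{u} B) :=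
  ShortComplex.mk (ModuleCat.ofHom (LinearMap.ker π).subtype) (ModuleCat.ofHom π) (by ext x; exact x.2)

theorem kerSeq_shortExact {B : Type u} [CommRing B] {F M : Type u} [AddCommGroup F] [Module B F] [AddCommGroup M]
    [Module B M] {π : F →ₗ[B] M} (hπ : Function.Surjective π) : (kerSeq π).ShortExact :=
  { exact := (ShortComplex.moduleCat_exact_iff (kerSeq π)).2 fun x hx => ⟨⟨x, hx⟩, rfl⟩
    mono_f := (ModuleCat.mono_iff_injective _).2 Subtype.val_injective
    epi_g := (ModuleCat.epi_iff_surjective _).2 hπ }

theorem projDimLT_succ_iff {B : Type u} [CommRing B] {F M : Type u} [AddCommGroup F] [Module B F]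
    [Module.Projective B F] [AddCommGroup M] [Module B M] {π : F →ₗ[B] M} (hπ : Function.Surjective π) (d : ℕ) :
    HasProjectiveDimensionLT (ModuleCat.of B M) (d + 2) ↔
      HasProjectiveDimensionLT (ModuleCat.of B (LinearMap.ker π)) (d + 1) :=
  (kerSeq_shortExact hπ).hasProjectiveDimensionLT_X₃_iff d
    ((IsProjective.iff_projective _).1 (inferInstanceAs (Module.Projective B F)))

variable (A B : Type u) [CommRing A] [CommRing B] [Algebra A B] [Algebra.FinitePresentation A B] [Module.Flat A B]

/-- Tor-dimension is projective dimension. -/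
theorem torDimLE_iff_projDimLT (d : ℕ) : ∀ (M : Type u) [AddCommGroup M] [Module B M] [Module A M]
    [IsScalarTower A B M] [Module.FinitePresentation B M] [Module.Flat A M],
    DRing.HasTorDimLE B d M ↔ HasProjectiveDimensionLT (ModuleCat.of B M) (d + 1) := by
  induction d with
  | zero =>
    intro M _ _ _ _ _ _
    refine (H9Misc.DRingTor.torDimLE_zero_iff (ModuleCat.of B M)).trans ?_
    rw [zero_add, ← projective_iff_hasProjectiveDimensionLT_one, ← IsProjective.iff_projective]
    refine ⟨fun h => ?_, fun h => ?_⟩
    · haveI : Module.Flat B M := h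
      exact Module.Flat.projective_of_finitePresentation
    · exact (inferInstance : Module.Flat B M)
  | succ d ih =>
    intro M _ _ _ _ _ _
    obtain ⟨a, π, hπ⟩ := Module.Finite.exists_fin' B M
    haveI := fp_ker (A := A) π hπ
    haveI : Module.Flat A (LinearMap.ker π) := flat_ker A (π.restrictScalars A) hπ
    haveI : Module.Flat B (kerSeq π).X₂ := inferInstanceAs (Module.Flat B (Fin a → B))
    rw [projDimLT_succ_iff hπ d, ← ih (LinearMap.ker π)]
    exact H9Misc.DRingTor.torDimLE_succ_iff (kerSeq_shortExact hπ) d

/-- `Tor₀(M, B) = M`. -/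
theorem isZero_of_tor_zero {B : Type u} [CommRing B] (M : ModuleCat.{u} B)
    (h : IsZero (((Tor (ModuleCat.{u} B) 0).obj M).obj (𝟙_ (ModuleCat.{u} B)))) : IsZero M :=
  h.of_iso ((((tensoringLeft (ModuleCat.{u} B)).obj M).leftDerivedZeroIsoSelf.app (𝟙_ _)) ≪≫ ρ_ M).symm

theorem isZero_tor_of_isZero {B : Type u} [CommRing B] (M N : ModuleCat.{u} B) (hM : IsZero M) (i : ℕ) :
    IsZero (((Tor (ModuleCat.{u} B) i).obj M).obj N) := by
  haveI : Subsingleton M := ModuleCat.subsingleton_of_isZero hM
  cases i with
  | zero =>
    refine IsZero.of_iso ?_ (((tensoringLeft (ModuleCat.{u} B)).obj M).leftDerivedZeroIsoSelf.app N)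
    rw [ModuleCat.isZero_iff_subsingleton]
    exact inferInstanceAs (Subsingleton (M ⊗[B] N))
  | succ i => exact TorBridge.isZero_tor_succ_of_flat M N i

/-- The projective dimension is the Tor-dimension. -/
theorem projectiveDimension_eq_torDim (M : Type u) [AddCommGroup M] [Module B M] [Module A M]
    [IsScalarTower A B M] [Module.FinitePresentation B M] [Module.Flat A M] :
    projectiveDimension (ModuleCat.of B M) =
      sInf {n : WithBot ℕ∞ | ∀ i : ℕ, n < i → ∀ N : ModuleCat.{u} B,
        Limits.IsZero (((Tor (ModuleCat.{u} B) i).obj (ModuleCat.of B M)).obj N)} := by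
  have key : ∀ n : WithBot ℕ∞, n ∈ {n : WithBot ℕ∞ | ∀ i : ℕ, n < i → ∀ N : ModuleCat.{u} B,
      Limits.IsZero (((Tor (ModuleCat.{u} B) i).obj (ModuleCat.of B M)).obj N)} ↔
        projectiveDimension (ModuleCat.of B M) ≤ n := by
    intro n
    induction n with
    | bot =>
      rw [le_bot_iff, projectiveDimension_eq_bot_iff, Set.mem_ofPred_eq]
      exact ⟨fun h => isZero_of_tor_zero _ (h 0 (WithBot.bot_lt_coe _) _),
        fun h i _ N => isZero_tor_of_isZero _ N h i⟩
    | coe n =>
      induction n with
      | top => exact iff_of_true (fun i hi => absurd hi (by simp)) le_top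
      | coe d =>
        refine Iff.trans (b := DRing.HasTorDimLE B d M) ⟨?_, ?_⟩
          ((torDimLE_iff_projDimLT A B d M).trans (projectiveDimension_le_iff _ d).symm)
        · intro h N _ _ p hp
          exact ModuleCat.isZero_iff_subsingleton.1 (h p (by exact_mod_cast hp) (ModuleCat.of B N))
        · intro h i hi N
          exact ModuleCat.isZero_iff_subsingleton.2 (h N i (by exact_mod_cast hi))
  exact le_antisymm (le_sInf fun n hn => (key n).1 hn) (sInf_le ((key _).2 le_rfl))

end Groth.Agent.FlatSyz5
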