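import Groth.Agent.FlatSyz5.Dim

/-!
# Projective dimension by fibres
-/

set_option linter.style.haveILetI false

universe u

open CategoryTheory CategoryTheory.Limits TensorProduct

namespace Groth.Agent.FlatSyz5

variable {A B : Type u} [CommRing A] [CommRing B] [Algebra A B]

section

variable {F M : Type u} [AddCommGroup F] [Module B F] [Module A F] [IsScalarTower A B F]
  [AddCommGroup M] [Module B M] [Module A M] [IsScalarTower A B M] [Module.Flat A M]

/-- The kernel of a surjection onto a module flat over the base commutes with base change. -/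
theorem baseChange_subtype_injective (π : F →ₗ[B] M) (hπ : Function.Surjective π) (κ : Type u) [CommRing κ]
    [Algebra A κ] : Function.Injective ((LinearMap.ker π).subtype.baseChange (B ⊗[A] κ)) := by
  let K := LinearMap.ker π
  let eK : (B ⊗[A] κ) ⊗[B] K ≃+ K ⊗[A] κ :=
    (TensorProduct.comm B (B ⊗[A] κ) K).toAddEquiv.trans (AlgebraTensorModule.cancelBaseChange A B B K κ).toAddEquiv
  let eF : (B ⊗[A] κ) ⊗[B] F ≃+ F ⊗[A] κ :=
    (TensorProduct.comm B (B ⊗[A] κ) F).toAddEquiv.trans (AlgebraTensorModule.cancelBaseChange A B B F κ).toAddEquiv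
  let i : K →ₗ[A] F := K.subtype.restrictScalars A
  have hi : Function.Injective (i.rTensor κ) := by
    rw [← LinearMap.lTensor_inj_iff_rTensor_inj]
    exact W4Lib.lTensor_injective_of_flat_quotient (M₁ := ↥K) (f := i) (g := π.restrictScalars A)
      Subtype.val_injective (LinearMap.exact_subtype_ker_map π) hπ κ
  have hcomm : ∀ x, eF (K.subtype.baseChange (B ⊗[A] κ) x) = i.rTensor κ (eK x) := by
    intro x
    induction x using TensorProduct.induction_on with
    | zero => simp
    | add x y hx hy => simp only [map_add, hx, hy]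
    | tmul d k =>
      induction d using TensorProduct.induction_on with
      | zero => simp
      | add d e hd he => simp only [add_tmul, map_add, hd, he]
      | tmul b c => simp [eF, eK, i]
  intro x y hxy
  apply eK.injective
  apply hi
  rw [← hcomm, ← hcomm]
  exact congrArg eF hxy

/-- The kernel of the base change is the base change of the kernel. -/
theorem nonempty_ker_baseChange (π : F →ₗ[B] M) (hπ : Function.Surjective π) (κ : Type u) [CommRing κ] [Algebra A κ] :
    Nonempty ((B ⊗[A] κ) ⊗[B] LinearMap.ker π ≃ₗ[B ⊗[A] κ] LinearMap.ker (π.baseChange (B ⊗[A] κ))) := by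
  have hex : Function.Exact ((LinearMap.ker π).subtype.baseChange (B ⊗[A] κ)) (π.baseChange (B ⊗[A] κ)) :=
    lTensor_exact (B ⊗[A] κ) (LinearMap.exact_subtype_ker_map π) hπ
  refine ⟨LinearEquiv.ofBijective (((LinearMap.ker π).subtype.baseChange (B ⊗[A] κ)).codRestrict _
    fun x => hex.apply_apply_eq_zero x) ⟨fun x y hxy => ?_, fun z => ?_⟩⟩
  · exact baseChange_subtype_injective π hπ κ (congrArg Subtype.val hxy)
  · obtain ⟨x, hx⟩ := (hex z.1).1 z.2
    exact ⟨x, Subtype.ext hx⟩

end

variable (A B) [Algebra.FinitePresentation A B] [Module.Flat A B]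

theorem projDimLT_iff_fibres (d : ℕ) : ∀ (M : Type u) [AddCommGroup M] [Module B M] [Module A M]
    [IsScalarTower A B M] [Module.FinitePresentation B M] [Module.Flat A M],
    HasProjectiveDimensionLT (ModuleCat.of B M) (d + 1) ↔ ∀ p : PrimeSpectrum A, HasProjectiveDimensionLT
      (ModuleCat.of (B ⊗[A] p.asIdeal.ResidueField) ((B ⊗[A] p.asIdeal.ResidueField) ⊗[B] M)) (d + 1) := by
  induction d with
  | zero =>
    intro M _ _ _ _ _ _
    simp only [zero_add, ← projective_iff_hasProjectiveDimensionLT_one, ← IsProjective.iff_projective]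
    refine ⟨fun h p => ?_, fun h => ?_⟩
    · haveI := h
      infer_instance
    · haveI : Module.Flat B M := flat_of_fibres_projective fun p hp => h ⟨p, hp⟩
      exact Module.Flat.projective_of_finitePresentation
  | succ d ih =>
    intro M _ _ _ _ _ _
    obtain ⟨a, π, hπ⟩ := Module.Finite.exists_fin' B M
    haveI := fp_ker (A := A) π hπ
    haveI : Module.Flat A (LinearMap.ker π) := flat_ker A (π.restrictScalars A) hπ
    rw [projDimLT_succ_iff hπ d, ih (LinearMap.ker π)]
    refine forall_congr' fun p => ?_
    obtain ⟨e⟩ := nonempty_ker_baseChange (A := A) π hπ p.asIdeal.ResidueField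
    have hs : Function.Surjective (π.baseChange (B ⊗[A] p.asIdeal.ResidueField)) := LinearMap.lTensor_surjective _ hπ
    rw [projDimLT_succ_iff hs d]
    let i : ModuleCat.of (B ⊗[A] p.asIdeal.ResidueField)
        ((B ⊗[A] p.asIdeal.ResidueField) ⊗[B] LinearMap.ker π) ≅
        ModuleCat.of (B ⊗[A] p.asIdeal.ResidueField)
          (LinearMap.ker (π.baseChange (B ⊗[A] p.asIdeal.ResidueField))) :=
      { hom := ModuleCat.ofHom e.toLinearMap
        inv := ModuleCat.ofHom e.symm.toLinearMap
        hom_inv_id := ModuleCat.hom_ext (LinearMap.ext fun x => e.symm_apply_apply x)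
        inv_hom_id := ModuleCat.hom_ext (LinearMap.ext fun x => e.apply_symm_apply x) }
    exact ⟨fun _ => hasProjectiveDimensionLT_of_iso i (d + 1),
      fun _ => hasProjectiveDimensionLT_of_iso i.symm (d + 1)⟩

omit [Algebra.FinitePresentation A B] [Module.Flat A B] in
/-- A finite module with trivial fibres is trivial. -/
theorem subsingleton_of_fibres (M : Type u) [AddCommGroup M] [Module B M] [Module.Finite B M]
    (h : ∀ p : PrimeSpectrum A, Subsingleton ((B ⊗[A] p.asIdeal.ResidueField) ⊗[B] M)) : Subsingleton M := by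
  have hann : Module.annihilator B M = ⊤ := by
    by_contra hne
    obtain ⟨q, hq, hle⟩ := Ideal.exists_le_maximal _ hne
    haveI := hq
    let p := q.comap (algebraMap A B)
    let κ₀ : p.ResidueField →ₐ[A] B ⧸ q := Ideal.ResidueField.liftₐ p (Algebra.ofId A (B ⧸ q))
      (fun a ha => Ideal.Quotient.eq_zero_iff_mem.2 ha)
      (fun a ha => by
        letI := Ideal.Quotient.field q
        show IsUnit (algebraMap A (B ⧸ q) a)
        exact isUnit_iff_ne_zero.2 fun h0 => ha (show algebraMap A B a ∈ q from Ideal.Quotient.eq_zero_iff_mem.1 h0))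
    let ψ : B ⊗[A] p.ResidueField →ₐ[B] B ⧸ q :=
      Algebra.TensorProduct.lift (Algebra.ofId B (B ⧸ q)) κ₀ fun _ _ => Commute.all _ _
    letI : Algebra (B ⊗[A] p.ResidueField) (B ⧸ q) := ψ.toRingHom.toAlgebra
    haveI : IsScalarTower B (B ⊗[A] p.ResidueField) (B ⧸ q) := IsScalarTower.of_algebraMap_eq fun b => (ψ.commutes b).symm
    haveI : Subsingleton ((B ⊗[A] p.ResidueField) ⊗[B] M) := h ⟨p, inferInstance⟩
    haveI : Subsingleton ((B ⧸ q) ⊗[B] M) :=
      (AlgebraTensorModule.cancelBaseChange B (B ⊗[A] p.ResidueField) (B ⧸ q) (B ⧸ q) M).symm.toEquiv.subsingleton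
    have htop : (⊤ : Submodule B M) ≤ q • ⊤ := by
      haveI : Subsingleton (M ⧸ (q • ⊤ : Submodule B M)) :=
        (TensorProduct.quotTensorEquivQuotSMul M q).symm.toEquiv.subsingleton
      exact top_le_iff.2 (Submodule.Quotient.subsingleton_iff.1 inferInstance)
    obtain ⟨r, hr1, hr⟩ := Submodule.exists_sub_one_mem_and_smul_eq_zero_of_fg_of_le_smul q ⊤ Module.Finite.fg_top htop
    have hrq : r ∈ q := hle (Module.mem_annihilator.2 fun m => hr m trivial)
    exact hq.ne_top ((Ideal.eq_top_iff_one q).2 (by simpa using sub_mem hrq hr1))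
  refine subsingleton_of_forall_eq 0 fun m => ?_
  have h1 : (1 : B) ∈ Module.annihilator B M := hann ▸ Submodule.mem_top
  simpa using Module.mem_annihilator.1 h1 m

theorem projectiveDimension_eq_iSup_fibres (M : Type u) [AddCommGroup M] [Module B M] [Module A M]
    [IsScalarTower A B M] [Module.FinitePresentation B M] [Module.Flat A M] :
    projectiveDimension (ModuleCat.of B M) = ⨆ p : PrimeSpectrum A, projectiveDimension
      (ModuleCat.of (B ⊗[A] p.asIdeal.ResidueField) ((B ⊗[A] p.asIdeal.ResidueField) ⊗[B] M)) := by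
  refine eq_of_forall_ge_iff fun n => ?_
  rw [iSup_le_iff]
  induction n with
  | bot =>
    simp only [le_bot_iff, projectiveDimension_eq_bot_iff, ModuleCat.isZero_iff_subsingleton]
    refine ⟨fun h p => ?_, subsingleton_of_fibres A B M⟩
    haveI : Subsingleton M := h
    exact inferInstanceAs (Subsingleton ((B ⊗[A] p.asIdeal.ResidueField) ⊗[B] M))
  | coe n =>
    induction n with
    | top => exact iff_of_true le_top fun _ => le_top
    | coe d =>
      simp only [show (((d : ℕ∞)) : WithBot ℕ∞) = (d : WithBot ℕ∞) from rfl, projectiveDimension_le_iff]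
      exact projDimLT_iff_fibres A B d M

end Groth.Agent.FlatSyz5
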