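import Groth.Agent.FlatStrat.Alg

/-!
# Pieces of the base over which a finitely presented module is free
-/

universe u

open MvPolynomial TensorProduct

namespace Groth.Agent.FlatSyz5

open FlatModel FlatStrat

/-- A module which is free after inverting `f` is free after any base change inverting `f`. -/
theorem free_baseChange_of_free {G A N : Type u} [CommRing G] [CommRing A] [Algebra G A] [AddCommGroup N]
    [Module G N] {ι : Type u} (φ : (ι →₀ G) →ₗ[G] N) (hφ : Function.Injective φ) (f : G)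
    (hgen : ∀ y : N, ∃ (k : ℕ) (c : ι →₀ G), f ^ k • y = φ c) (hf : IsUnit (algebraMap G A f)) :
    Module.Free A (A ⊗[G] N) := by
  obtain ⟨w, hw⟩ := hf
  let mA : (ι →₀ G) →ₗ[G] (ι →₀ A) := Finsupp.mapRange.linearMap (Algebra.linearMap G A)
  choose k c hkc using hgen
  let r₀ : N → (ι →₀ A) := fun y => ((↑(w⁻¹) : A) ^ k y) • mA (c y)
  have huniq : ∀ (y : N) (l : ℕ) (d : ι →₀ G), f ^ l • y = φ d → r₀ y = ((↑(w⁻¹) : A) ^ l) • mA d := by
    intro y l d hd
    have h1 : f ^ l • c y = f ^ k y • d := hφ (by rw [map_smul, map_smul, ← hd, ← hkc y, smul_comm])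
    have h2 := congrArg mA h1
    rw [map_smul, map_smul, ← algebraMap_smul A (f ^ l), ← algebraMap_smul A (f ^ k y), map_pow, map_pow,
      ← hw] at h2
    have h3 := congrArg (fun z => ((↑(w⁻¹) : A) ^ l * (↑(w⁻¹) : A) ^ k y) • z) h2
    simp only [smul_smul] at h3
    have e1 : (↑(w⁻¹) : A) ^ l * (↑(w⁻¹) : A) ^ k y * (↑w : A) ^ l = (↑(w⁻¹) : A) ^ k y := by
      rw [mul_right_comm, ← mul_pow, Units.inv_mul, one_pow, one_mul]
    have e2 : (↑(w⁻¹) : A) ^ l * (↑(w⁻¹) : A) ^ k y * (↑w : A) ^ k y = (↑(w⁻¹) : A) ^ l := by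
      rw [mul_assoc, ← mul_pow, Units.inv_mul, one_pow, mul_one]
    rw [e1, e2] at h3
    exact h3
  let r : N →ₗ[G] (ι →₀ A) :=
    { toFun := r₀
      map_add' := fun y z => by
        have hy := huniq y (k y + k z) (f ^ k z • c y)
          (by rw [map_smul, ← hkc, smul_smul, ← pow_add, add_comm])
        have hz := huniq z (k y + k z) (f ^ k y • c z) (by rw [map_smul, ← hkc, smul_smul, ← pow_add])
        rw [huniq (y + z) (k y + k z) (f ^ k z • c y + f ^ k y • c z) (by
          rw [map_add, map_smul, map_smul, ← hkc, ← hkc, smul_smul, smul_smul, ← pow_add, ← pow_add,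
            smul_add, add_comm (k z)]), map_add, smul_add, hy, hz]
      map_smul' := fun g y => by
        rw [huniq (g • y) (k y) (g • c y) (by rw [map_smul, ← hkc, smul_comm]), map_smul, RingHom.id_apply,
          smul_comm] }
  let L : A ⊗[G] N →ₗ[A] (ι →₀ A) := r.liftBaseChange A
  let s : (ι →₀ A) →ₗ[A] A ⊗[G] N :=
    Finsupp.linearCombination A fun i => (1 : A) ⊗ₜ[G] φ (Finsupp.single i 1)
  have hs : ∀ d : ι →₀ G, s (mA d) = (1 : A) ⊗ₜ[G] φ d := by
    intro d
    refine LinearMap.congr_fun (f := (s.restrictScalars G).comp mA)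
      (g := (TensorProduct.mk G A N 1).comp φ) ?_ d
    ext i
    simp [s, mA]
  refine Module.Free.of_equiv (LinearEquiv.ofLinearMap L s ?_ ?_).symm
  · refine Finsupp.lhom_ext' fun i => LinearMap.ext_ring ?_
    simp only [LinearMap.comp_apply, Finsupp.lsingle_apply, LinearMap.id_apply, s, L,
      Finsupp.linearCombination_single, one_smul, LinearMap.liftBaseChange_tmul]
    show r₀ _ = _
    rw [huniq _ 0 (Finsupp.single i 1) (by rw [pow_zero, one_smul])]
    simp [mA]
  · refine TensorProduct.AlgebraTensorModule.ext fun b y => ?_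
    simp only [LinearMap.comp_apply, LinearMap.id_apply, L, LinearMap.liftBaseChange_tmul, map_smul]
    show b • s (((↑(w⁻¹) : A) ^ k y) • mA (c y)) = _
    rw [map_smul, hs, ← hkc, tmul_smul, ← algebraMap_smul A (f ^ k y), map_pow, ← hw, smul_smul, smul_smul,
      mul_assoc, ← mul_pow, Units.inv_mul, one_pow, mul_one, smul_tmul', smul_eq_mul, mul_one]

/-- Near every prime, on a finitely presented closed piece, the module is free. -/
theorem exists_free_piece {R : Type u} [CommRing R] {S : Type u} [CommRing S] [Algebra R S]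
    [Algebra.FinitePresentation R S] (M : Type u) [AddCommGroup M] [Module S M] [Module R M]
    [IsScalarTower R S M] [Module.FinitePresentation S M] (q : Ideal R) (hq : q.IsPrime) :
    ∃ (P : Ideal R) (f : R), P.FG ∧ P ≤ q ∧ f ∉ q ∧ ∀ (A : Type u) [CommRing A] [Algebra R A],
      (∀ x ∈ P, algebraMap R A x = 0) → IsUnit (algebraMap R A f) → Module.Free A (A ⊗[R] M) := by
  classical
  obtain ⟨n, φ, hφ, hkerφ⟩ := Algebra.FinitePresentation.out (R := R) (A := S)
  let := φ.toRingHom.toAlgebra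
  let := Module.compHom M φ.toRingHom
  have : IsScalarTower (MvPolynomial (Fin n) R) S M := ⟨fun p s m => mul_smul (φ p) s m⟩
  have : IsScalarTower R (MvPolynomial (Fin n) R) M := ⟨fun r p m => by
    show φ (r • p) • m = r • φ p • m
    rw [map_smul, smul_assoc]⟩
  have hkA : (LinearMap.ker (Algebra.linearMap (MvPolynomial (Fin n) R) S)).FG := hkerφ
  have : Module.FinitePresentation (MvPolynomial (Fin n) R) S :=
    Module.finitePresentation_of_surjective (Algebra.linearMap (MvPolynomial (Fin n) R) S) hφ hkA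
  have : Module.FinitePresentation (MvPolynomial (Fin n) R) M := Module.FinitePresentation.trans _ M S
  obtain ⟨a, π, hπ⟩ := Module.Finite.exists_fin' (MvPolynomial (Fin n) R) M
  obtain ⟨G, hG⟩ := Module.FinitePresentation.fg_ker π hπ
  let c : Finset R := G.biUnion fun v => Finset.univ.biUnion fun i => (v i).coeffs
  let R₀ : Subalgebra ℤ R := Algebra.adjoin ℤ (c : Set R)
  have : Algebra.FiniteType ℤ R₀ := (Subalgebra.fg_iff_finiteType R₀).1 (Subalgebra.fg_adjoin_finset c)
  have : IsNoetherianRing R₀ := Algebra.FiniteType.isNoetherianRing ℤ R₀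
  have hGdesc : ∀ v ∈ G, ∃ w : V a n R₀, mapV (algebraMap R₀ R) w = v := by
    intro v hv
    have : ∀ i, ∃ q : MvPolynomial (Fin n) R₀, MvPolynomial.map (algebraMap R₀ R) q = v i := fun i =>
      MvPolynomial.mem_range_map_iff_coeffs_subset.2 fun x hx =>
        ⟨⟨x, Algebra.subset_adjoin (Finset.mem_biUnion.2 ⟨v, hv, Finset.mem_biUnion.2 ⟨i, Finset.mem_univ _, hx⟩⟩)⟩, rfl⟩
    choose w hw using this
    exact ⟨w, funext hw⟩
  choose! lv hlv using hGdesc
  let K₀ : Submodule (MvPolynomial (Fin n) R₀) (V a n R₀) := Submodule.span _ (lv '' G)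
  have hker : LinearMap.ker π = KK K₀ R := by
    apply le_antisymm
    · rw [← hG, Submodule.span_le]
      intro v hv
      exact Submodule.subset_span ⟨lv v, Submodule.subset_span ⟨v, hv, rfl⟩, hlv v hv⟩
    · rw [KK, Submodule.span_le]
      rintro _ ⟨w, hw, rfl⟩
      refine Submodule.span_le.2 ?_ (mapV_mem_span (algebraMap R₀ R) hw)
      rintro _ ⟨w, ⟨v, hv, rfl⟩, rfl⟩
      rw [hlv v hv]
      exact hG.le (Submodule.subset_span hv)
  let eM : Quot' K₀ R ≃ₗ[R] M := (Submodule.quotEquivOfEq _ (LinearMap.ker (π.restrictScalars R))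
    (by rw [LinearMap.ker_restrictScalars, hker])).trans ((π.restrictScalars R).quotKerEquivOfSurjective hπ)
  obtain ⟨L₀, hL₀, hcov⟩ := exists_cover K₀ ⊥
  obtain ⟨⟨p, f⟩, hx, hpq, hfq⟩ := hcov (q.comap (algebraMap R₀ R)) (hq.comap _) bot_le
  refine ⟨p.map (algebraMap R₀ R), algebraMap R₀ R f, Ideal.FG.map (IsNoetherian.noetherian p) _,
    Ideal.map_le_iff_le_comap.2 hpq, hfq, fun A _ _ hp hf => ?_⟩
  obtain ⟨ι, s, hindep, hgen⟩ := hL₀ _ hx
  let := (Ideal.Quotient.lift p (algebraMap R₀ A) fun z hz => hp _ (Ideal.mem_map_of_mem _ hz)).toAlgebra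
  have : IsScalarTower R₀ (R₀ ⧸ p) A := IsScalarTower.of_algebraMap_eq fun _ => rfl
  obtain ⟨e₁⟩ := nonempty_quot_baseChange (R := R) (R' := A) K₀
  obtain ⟨e₂⟩ := nonempty_quot_baseChange (R := R₀ ⧸ p) (R' := A) K₀
  let φG : (ι →₀ R₀ ⧸ p) →ₗ[R₀ ⧸ p] Quot' K₀ (R₀ ⧸ p) :=
    (Submodule.mkQ _).comp (Finsupp.linearCombination (R₀ ⧸ p) s)
  have : Module.Free A (A ⊗[R₀ ⧸ p] Quot' K₀ (R₀ ⧸ p)) := by
    refine free_baseChange_of_free φG ?_ (Ideal.Quotient.mk p f) (fun y => ?_) hf
    · rw [injective_iff_map_eq_zero]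
      intro v hv
      exact hindep v ((Submodule.Quotient.mk_eq_zero _).1 hv)
    · obtain ⟨x, rfl⟩ := Submodule.mkQ_surjective _ y
      obtain ⟨k, v, hv⟩ := hgen x
      refine ⟨k, v, ?_⟩
      rw [← LinearMap.map_smul]
      exact (Submodule.Quotient.eq _).2 hv
  exact Module.Free.of_equiv
    (((eM.symm.baseChange R A _ _).trans e₁).trans e₂.symm).symm

end Groth.Agent.FlatSyz5
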