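import Groth.Agent.FlatSyz5.Basic

/-!
# Kernels of surjections onto modules flat over the base
-/

namespace Groth.Agent.FlatSyz5

universe u

/-- The kernel of a surjection from a finitely presented module onto a finitely presented module flat over
the base is finitely presented. -/
theorem fp_ker_of_surjective {A B : Type u} [CommRing A] [CommRing B] [Algebra A B] [Algebra.FinitePresentation A B]
    {G H : Type u} [AddCommGroup G] [Module B G] [AddCommGroup H] [Module B H] [Module A H] [IsScalarTower A B H]
    [Module.FinitePresentation B G] [Module.FinitePresentation B H] [Module.Flat A H]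
    (p : G →ₗ[B] H) (hp : Function.Surjective p) : Module.FinitePresentation B (LinearMap.ker p) := by
  obtain ⟨a, π, hπ⟩ := Module.Finite.exists_fin' B G
  have := fp_ker (A := A) (p ∘ₗ π) (hp.comp hπ)
  let r : LinearMap.ker (p ∘ₗ π) →ₗ[B] LinearMap.ker p :=
    (π ∘ₗ (LinearMap.ker (p ∘ₗ π)).subtype).codRestrict _ fun x => x.2
  have hr : Function.Surjective r := fun y => by
    obtain ⟨x, hx⟩ := hπ y.1
    exact ⟨⟨x, show p (π x) = 0 by rw [hx]; exact y.2⟩, Subtype.ext hx⟩
  refine Module.finitePresentation_of_surjective r hr ?_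
  have h2 : (LinearMap.ker r).map (LinearMap.ker (p ∘ₗ π)).subtype = LinearMap.ker π := by
    ext x
    refine ⟨?_, fun hx => ⟨⟨x, show p (π x) = 0 by rw [LinearMap.mem_ker.1 hx, map_zero]⟩, Subtype.ext hx, rfl⟩⟩
    rintro ⟨y, hy, rfl⟩
    exact congrArg Subtype.val hy
  exact Submodule.fg_of_fg_map_injective _ (Submodule.injective_subtype _)
    (h2 ▸ Module.FinitePresentation.fg_ker π hπ)

end Groth.Agent.FlatSyz5
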