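import Groth.Agent.W4Lib.Flat
import Mathlib

/-!
# Free bases modulo a nilpotent ideal
-/

namespace Groth.Agent.FlatSyz5

open TensorProduct

universe u

variable {A : Type u} [CommRing A] {M : Type u} [AddCommGroup M] [Module A M] (J : Ideal A)

/-- Coordinates in `J` give membership in `J F`. -/
theorem mem_smul_top_of_forall {κ : Type*} {c : κ →₀ A} (h : ∀ k, c k ∈ J) : c ∈ (J • ⊤ : Submodule A (κ →₀ A)) := by
  classical
  rw [← Finsupp.sum_single c]
  refine Submodule.sum_mem _ fun k _ => ?_
  rw [show Finsupp.single k (c k) = c k • Finsupp.single k (1 : A) by simp]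
  exact Submodule.smul_mem_smul (h k) Submodule.mem_top

/-- Conversely. -/
theorem forall_of_mem_smul_top {κ : Type*} {c : κ →₀ A} (h : c ∈ (J • ⊤ : Submodule A (κ →₀ A))) (k : κ) : c k ∈ J := by
  refine Submodule.smul_induction_on h (fun r hr d _ => ?_) fun d e hd he => ?_
  · simpa using J.mul_mem_right (d k) hr
  · simpa using add_mem hd he

/-- A flat module with a presentation minimal modulo a nilpotent ideal is free on the generators. -/
theorem injective_of_flat [Module.Flat A M] (hJ : IsNilpotent J) {κ : Type u} (f : (κ →₀ A) →ₗ[A] M)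
    (hf : Function.Surjective f) (hk : LinearMap.ker f ≤ J • ⊤) : Function.Injective f := by
  obtain ⟨m, hm⟩ := hJ
  obtain ⟨K, hK⟩ : ∃ K, K = LinearMap.ker f := ⟨_, rfl⟩
  have hex : Function.Exact K.subtype f := by
    subst hK
    exact LinearMap.exact_subtype_ker_map f
  have hinj := W4Lib.lTensor_injective_of_flat_quotient (M₁ := ↥K) (M₂ := κ →₀ A) (M₃ := M) (f := K.subtype) (g := f)
    (Submodule.injective_subtype K) hex hf (A ⧸ J)
  have hstep : (⊤ : Submodule A K) ≤ J • ⊤ := by
    intro x _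
    have h1 : (Ideal.Quotient.mk J 1) ⊗ₜ[A] (x : κ →₀ A) = 0 := by
      apply (TensorProduct.quotTensorEquivQuotSMul (κ →₀ A) J).injective
      rw [TensorProduct.quotTensorEquivQuotSMul_mk_tmul, one_smul, map_zero, Submodule.Quotient.mk_eq_zero]
      exact hk (hK.le x.2)
    have h2 : (Ideal.Quotient.mk J 1) ⊗ₜ[A] x = 0 := hinj (by rw [LinearMap.lTensor_tmul, map_zero]; exact h1)
    have h3 := congrArg (TensorProduct.quotTensorEquivQuotSMul K J) h2
    rw [TensorProduct.quotTensorEquivQuotSMul_mk_tmul, one_smul, map_zero, Submodule.Quotient.mk_eq_zero] at h3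
    exact h3
  have hpow : ∀ j : ℕ, (⊤ : Submodule A K) ≤ J ^ j • ⊤ := by
    intro j
    induction j with
    | zero => simp
    | succ j ih =>
      refine ih.trans ?_
      rw [pow_succ, Submodule.mul_smul]
      exact Submodule.smul_mono le_rfl hstep
  have htop := hpow m
  rw [hm, Submodule.zero_eq_bot, Submodule.bot_smul] at htop
  rw [injective_iff_map_eq_zero]
  intro x hx
  have h0 : (⟨x, hK.ge hx⟩ : K) ∈ (⊥ : Submodule A K) := htop Submodule.mem_top
  exact congrArg Subtype.val ((Submodule.mem_bot A).1 h0)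

/-- A lift of a basis modulo a nilpotent ideal generates, with relations in `J`. -/
theorem exists_cover_of_free_mod (hJ : IsNilpotent J) (hfree : Module.Free (A ⧸ J) ((A ⧸ J) ⊗[A] M)) :
    ∃ (κ : Type u) (f : (κ →₀ A) →ₗ[A] M), Function.Surjective f ∧ LinearMap.ker f ≤ J • ⊤ := by
  classical
  obtain ⟨m, hm⟩ := hJ
  let b := hfree.chooseBasis
  have hsurj : Function.Surjective (TensorProduct.mk A (A ⧸ J) M 1) :=
    TensorProduct.mk_surjective A M _ Ideal.Quotient.mk_surjective
  choose v hv using fun k => hsurj (b k)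
  let f := Finsupp.linearCombination A v
  let red := TensorProduct.mk A (A ⧸ J) M 1
  let q : (Module.Free.ChooseBasisIndex (A ⧸ J) ((A ⧸ J) ⊗[A] M) →₀ A) →ₗ[A]
      (Module.Free.ChooseBasisIndex (A ⧸ J) ((A ⧸ J) ⊗[A] M) →₀ A ⧸ J) :=
    Finsupp.mapRange.linearMap (Algebra.linearMap A (A ⧸ J))
  have hcomm : ∀ c, red (f c) = b.repr.symm (q c) := by
    intro c
    induction c using Finsupp.induction_linear with
    | zero => simp
    | add c d hc hd => rw [map_add, map_add, map_add, map_add, hc, hd]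
    | single k r =>
      simp only [f, q, red, Finsupp.linearCombination_single, map_smul, hv, Finsupp.mapRange.linearMap_apply,
        Finsupp.mapRange_single, Algebra.linearMap_apply, Module.Basis.repr_symm_apply, algebraMap_smul]
  refine ⟨_, f, ?_, fun c hc => mem_smul_top_of_forall J fun k => ?_⟩
  · have hgen : (⊤ : Submodule A M) ≤ LinearMap.range f ⊔ J • ⊤ := by
      intro x _
      obtain ⟨c, hc⟩ : ∃ c, q c = b.repr (red x) :=
        Finsupp.mapRange_surjective _ (map_zero _) Ideal.Quotient.mk_surjective (b.repr (red x))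
      refine Submodule.mem_sup.2 ⟨f c, ⟨c, rfl⟩, x - f c, ?_, add_sub_cancel _ _⟩
      have h1 : red (x - f c) = 0 := by rw [map_sub, hcomm, hc, LinearEquiv.symm_apply_apply, sub_self]
      have h2 := congrArg (TensorProduct.quotTensorEquivQuotSMul M J) h1
      rw [map_zero] at h2
      have h3 : TensorProduct.quotTensorEquivQuotSMul M J ((Ideal.Quotient.mk J (1 : A)) ⊗ₜ[A] (x - f c)) = 0 := h2
      rw [TensorProduct.quotTensorEquivQuotSMul_mk_tmul, one_smul] at h3
      exact (Submodule.Quotient.mk_eq_zero _).1 h3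
    have hpow : ∀ j : ℕ, (⊤ : Submodule A M) ≤ LinearMap.range f ⊔ J ^ j • ⊤ := by
      intro j
      induction j with
      | zero => rw [pow_zero, Submodule.one_smul]; exact le_sup_right
      | succ j ih =>
        refine ih.trans (sup_le le_sup_left ?_)
        refine le_trans (Submodule.smul_mono le_rfl hgen) ?_
        rw [Submodule.smul_sup, ← Submodule.mul_smul, ← pow_succ]
        exact sup_le_sup Submodule.smul_le_right le_rfl
    have htop := hpow m
    rw [hm, Submodule.zero_eq_bot, Submodule.bot_smul, sup_bot_eq] at htop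
    exact LinearMap.range_eq_top.1 (top_le_iff.1 htop)
  · have h0 : q c = 0 := b.repr.symm.injective (by rw [← hcomm, LinearMap.mem_ker.1 hc, map_zero, map_zero])
    exact Ideal.Quotient.eq_zero_iff_mem.1 (DFunLike.congr_fun h0 k)

/-- The least ideal modulo which a module, free modulo a nilpotent ideal, is free. -/
theorem exists_ideal_free_iff (hJ : IsNilpotent J) (hfree : Module.Free (A ⧸ J) ((A ⧸ J) ⊗[A] M)) :
    ∃ R₀ : Ideal A, ∀ (A' : Type u) [CommRing A'] [Algebra A A'],
      (Ideal.map (algebraMap A A') R₀ = ⊥ → Module.Free A' (A' ⊗[A] M)) ∧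
        (Module.Flat A' (A' ⊗[A] M) → Ideal.map (algebraMap A A') R₀ = ⊥) := by
  classical
  obtain ⟨κ, f, hf, hk⟩ := exists_cover_of_free_mod J hJ hfree
  refine ⟨Ideal.span {a | ∃ c ∈ LinearMap.ker f, ∃ k, a = c k}, fun A' _ _ => ?_⟩
  let mA : (κ →₀ A) →ₗ[A] (κ →₀ A') := Finsupp.mapRange.linearMap (Algebra.linearMap A A')
  let f' : (κ →₀ A') →ₗ[A'] A' ⊗[A] M :=
    Finsupp.linearCombination A' fun k => (1 : A') ⊗ₜ[A] f (Finsupp.single k 1)
  have hff' : ∀ c, f' (mA c) = (1 : A') ⊗ₜ[A] f c := by
    intro c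
    refine LinearMap.congr_fun (f := (f'.restrictScalars A).comp mA) (g := (TensorProduct.mk A A' M 1).comp f) ?_ c
    ext k
    simp [f', mA]
  have hf' : Function.Surjective f' := by
    intro z
    induction z using TensorProduct.induction_on with
    | zero => exact ⟨0, map_zero _⟩
    | tmul r x =>
      obtain ⟨c, rfl⟩ := hf x
      exact ⟨r • mA c, by rw [map_smul, hff', smul_tmul', smul_eq_mul, mul_one]⟩
    | add y z hy hz =>
      obtain ⟨a, ha⟩ := hy; obtain ⟨b, hb⟩ := hz
      exact ⟨a + b, by rw [map_add, ha, hb]⟩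
  let N' : Submodule A' (κ →₀ A') := Submodule.span A' (mA '' LinearMap.ker f)
  let g : M →ₗ[A] (κ →₀ A') ⧸ N' :=
    ((LinearMap.ker f).liftQ ((N'.mkQ.restrictScalars A).comp mA) fun c hc =>
      (Submodule.Quotient.mk_eq_zero _).2 (Submodule.subset_span ⟨c, hc, rfl⟩)) ∘ₗ
      (f.quotKerEquivOfSurjective hf).symm.toLinearMap
  have hg : ∀ c, g (f c) = N'.mkQ (mA c) := fun c => by
    simp only [g, LinearMap.comp_apply, LinearEquiv.coe_coe]
    rw [show (f.quotKerEquivOfSurjective hf).symm (f c) = (LinearMap.ker f).mkQ c from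
      (f.quotKerEquivOfSurjective hf).symm_apply_eq.2 rfl]
    rfl
  have hGf : ∀ c', (g.liftBaseChange A') (f' c') = N'.mkQ c' := by
    intro c'
    refine LinearMap.congr_fun (f := (g.liftBaseChange A').comp f') (g := N'.mkQ) ?_ c'
    refine Finsupp.lhom_ext' fun k => LinearMap.ext_ring ?_
    simp only [LinearMap.comp_apply, Finsupp.lsingle_apply, f', Finsupp.linearCombination_single, one_smul,
      LinearMap.liftBaseChange_tmul, hg]
    simp [mA]
  have hker : LinearMap.ker f' ≤ N' := fun c hc => by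
    have := hGf c
    rw [LinearMap.mem_ker.1 hc, map_zero] at this
    exact (Submodule.Quotient.mk_eq_zero _).1 this.symm
  have hN'J : N' ≤ J.map (algebraMap A A') • ⊤ := Submodule.span_le.2 (by
    rintro _ ⟨c, hc, rfl⟩
    exact mem_smul_top_of_forall _ fun k => Ideal.mem_map_of_mem _ (forall_of_mem_smul_top J (hk hc) k))
  constructor
  · intro hR
    have hN' : N' = ⊥ := Submodule.span_eq_bot.2 (by
      rintro _ ⟨c, hc, rfl⟩
      ext k
      have : algebraMap A A' (c k) ∈ (⊥ : Ideal A') :=
        hR ▸ Ideal.mem_map_of_mem _ (Ideal.subset_span ⟨c, hc, k, rfl⟩)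
      simpa [mA] using this)
    exact Module.Free.of_equiv (LinearEquiv.ofBijective f'
      ⟨LinearMap.ker_eq_bot.1 (le_bot_iff.1 (hker.trans hN'.le)), hf'⟩)
  · intro hflat
    obtain ⟨m, hm⟩ := hJ
    have hinj := injective_of_flat (J.map (algebraMap A A'))
      ⟨m, by rw [← Ideal.map_pow, hm, Ideal.zero_eq_bot, Ideal.map_bot, Ideal.zero_eq_bot]⟩ f' hf'
      (hker.trans hN'J)
    rw [Ideal.map_span, Submodule.span_eq_bot]
    rintro _ ⟨_, ⟨c, hc, k, rfl⟩, rfl⟩
    have : mA c = 0 := hinj (by rw [hff', LinearMap.mem_ker.1 hc, tmul_zero, map_zero])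
    exact DFunLike.congr_fun this k

end Groth.Agent.FlatSyz5
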