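import Groth.Agent.FlatSyz5.Resolution
import Groth.Agent.Triage.NoethPC

/-!
# Finitely presented modules flat over the base are pseudo-coherent
-/

universe u

open CategoryTheory

attribute [local instance] HasDerivedCategory.standard

namespace Groth.Agent.FlatSyz5

variable (A B : Type u) [CommRing A] [CommRing B] [Algebra A B] [Algebra.FinitePresentation A B] [Module.Flat A B]

theorem pc_of_flat (k : ℕ) : ∀ (M : Type u) [AddCommGroup M] [Module B M] [Module A M] [IsScalarTower A B M]
    [Module.FinitePresentation B M] [Module.Flat A M], DRing.IsPseudoCoherentModule B (1 - k) M := by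
  induction k with
  | zero => intro M _ _ _ _ _ _; exact Triage.NoethPC.pc_of_pos M _ (by norm_num)
  | succ k ih =>
    intro M _ _ _ _ _ _
    obtain ⟨n, π, hπ⟩ := Module.Finite.exists_fin' B M
    let S : ShortComplex (ModuleCat.{u} B) := ShortComplex.mk (ModuleCat.ofHom (LinearMap.ker π).subtype)
      (ModuleCat.ofHom π) (by ext x; exact x.2)
    have hS : S.ShortExact :=
      { exact := (ShortComplex.moduleCat_exact_iff S).2 fun x hx => ⟨⟨x, hx⟩, rfl⟩
        mono_f := (ModuleCat.mono_iff_injective _).2 Subtype.val_injective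
        epi_g := (ModuleCat.epi_iff_surjective _).2 hπ }
    haveI := fp_ker (A := A) π hπ
    haveI : Module.Flat A (LinearMap.ker π) := flat_ker A (π.restrictScalars A) hπ
    have h1 := ih (LinearMap.ker π)
    have h2 := Triage.NoethPC.pc_of_free (A := B) (Fin n → B) (1 - ((k + 1 : ℕ) : ℤ))
    have h3 : DRing.IsPseudoCoherent B (1 - ((k + 1 : ℕ) : ℤ) + 1) (Dual.inD B (LinearMap.ker π)) := by
      rw [show (1 - ((k + 1 : ℕ) : ℤ) + 1) = 1 - (k : ℤ) by push_cast; ring]; exact h1
    exact (Groth.Agent.S2067.result hS.singleTriangle hS.singleTriangle_distinguished _).1 h3 h2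

theorem pc' (M : Type u) [AddCommGroup M] [Module B M] [Module A M] [IsScalarTower A B M]
    [Module.FinitePresentation B M] [Module.Flat A M] : DRing.IsPseudoCoherentModule' B M := by
  refine (Groth.Agent.S2066.result _).1.1 fun m => ?_
  by_cases hm : 0 < m
  · exact Triage.NoethPC.pc_of_pos M m hm
  · have := pc_of_flat A B (1 - m).toNat M
    rwa [show (1 : ℤ) - ((1 - m).toNat : ℤ) = m by omega] at this

end Groth.Agent.FlatSyz5
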